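/-
A group in which two p-subgroups with nontrivial intersection lie in one p-subgroup does not involve Qd(p),
and neither does any quotient of it (`not_involves`, `not_involves_quotient`).
Also: a 3 x 3 matrix of determinant 1 fixing a vector and a covector orthogonal to it is unipotent (`cube_sub_one`).
-/
import Cfsg.Agent.EqLemmas

set_option autoImplicit false

namespace Cfsg.Agent.QdFree

open Matrix

/-- A 3 x 3 matrix of determinant 1 fixing the vector v and the covector a, where a v = 0, is unipotent. -/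
theorem cube_sub_one {F : Type*} [Field F] (g : Matrix (Fin 3) (Fin 3) F) (v a : Fin 3 → F)
    (hv : v ≠ 0) (ha : a ≠ 0) (hav : a ⬝ᵥ v = 0) (hgv : g *ᵥ v = v) (hga : a ᵥ* g = a)
    (hdet : g.det = 1) : (g - 1) ^ 3 = 0 := by
  obtain ⟨N, rfl⟩ : ∃ N, g = 1 + N := ⟨g - 1, (add_sub_cancel 1 g).symm⟩
  rw [add_sub_cancel_left]
  rw [Matrix.add_mulVec, Matrix.one_mulVec, add_eq_left] at hgv
  rw [Matrix.vecMul_add, Matrix.vecMul_one, add_eq_left] at hga
  obtain ⟨l, hl⟩ := Function.ne_iff.mp hv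
  obtain ⟨k, hk⟩ := Function.ne_iff.mp ha
  simp only [Pi.zero_apply] at hl hk
  have r0 := congrFun hgv 0
  have r1 := congrFun hgv 1
  have r2 := congrFun hgv 2
  have c0 := congrFun hga 0
  have c1 := congrFun hga 1
  have c2 := congrFun hga 2
  simp [Matrix.mulVec, Matrix.vecMul, dotProduct, Fin.sum_univ_three] at r0 r1 r2 c0 c1 c2
  simp [dotProduct, Fin.sum_univ_three] at hav
  have hd : N.det = 0 := Matrix.exists_mulVec_eq_zero_iff.mp ⟨v, hv, hgv⟩
  have hc : N 0 0 * N 1 1 - N 0 1 * N 1 0 + (N 0 0 * N 2 2 - N 0 2 * N 2 0) +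
      (N 1 1 * N 2 2 - N 1 2 * N 2 1) = 0 := by
    have : a k * v l * (N 0 0 * N 1 1 - N 0 1 * N 1 0 + (N 0 0 * N 2 2 - N 0 2 * N 2 0) +
        (N 1 1 * N 2 2 - N 1 2 * N 2 1)) = 0 := by
      fin_cases k <;> fin_cases l <;> simp <;> grind
    simpa [hl, hk] using this
  have ht : N 0 0 + N 1 1 + N 2 2 = 0 := by
    simp [Matrix.det_fin_three] at hdet hd
    linear_combination hdet - hd - hc
  rw [Matrix.det_fin_three] at hd
  ext i j
  simp only [pow_succ, pow_zero, one_mul, Matrix.mul_apply, Fin.sum_univ_three, Matrix.zero_apply]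
  fin_cases i <;> fin_cases j <;> simp <;> grind

/-- In characteristic p a matrix g with (g - 1)^3 = 0 has order dividing p^2. -/
theorem pow_sq_eq_one {p : ℕ} [Fact p.Prime] {F : Type*} [Field F] [CharP F p]
    (g : Matrix (Fin 3) (Fin 3) F) (h : (g - 1) ^ 3 = 0) : g ^ p ^ 2 = 1 := by
  have h2 : 3 ≤ p ^ 2 := by
    have := (Fact.out : p.Prime).two_le
    nlinarith
  have h3 := sub_pow_char_pow_of_commute p 2 (Commute.one_right g)
  rw [pow_eq_zero_of_le h2 h, one_pow] at h3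
  exact sub_eq_zero.mp h3.symm

section Qd

variable {p : ℕ} [Fact p.Prime]

/-- Matrices in SL fixing a given column vector. -/
def fixVec {n : ℕ} {F : Type*} [Field F] (v : Fin n → F) :
    Subgroup (Matrix.SpecialLinearGroup (Fin n) F) where
  carrier := {g | (g : Matrix (Fin n) (Fin n) F) *ᵥ v = v}
  mul_mem' {a b} ha hb := by
    simp only [Set.mem_setOf_eq, Matrix.SpecialLinearGroup.coe_mul, ← Matrix.mulVec_mulVec] at ha hb ⊢
    rw [hb, ha]
  one_mem' := by simp
  inv_mem' {a} ha := by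
    simp only [Set.mem_setOf_eq] at ha ⊢
    conv_lhs => rw [← ha]
    rw [Matrix.mulVec_mulVec, ← Matrix.SpecialLinearGroup.coe_mul]
    simp

/-- Matrices in SL fixing a given row vector. -/
def fixRow {n : ℕ} {F : Type*} [Field F] (v : Fin n → F) :
    Subgroup (Matrix.SpecialLinearGroup (Fin n) F) where
  carrier := {g | v ᵥ* (g : Matrix (Fin n) (Fin n) F) = v}
  mul_mem' {a b} ha hb := by
    simp only [Set.mem_setOf_eq, Matrix.SpecialLinearGroup.coe_mul, ← Matrix.vecMul_vecMul] at ha hb ⊢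
    rw [ha, hb]
  one_mem' := by simp
  inv_mem' {a} ha := by
    simp only [Set.mem_setOf_eq] at ha ⊢
    conv_lhs => rw [← ha]
    rw [Matrix.vecMul_vecMul, ← Matrix.SpecialLinearGroup.coe_mul]
    simp

theorem qd_le_fixRow : qd p ≤ fixRow (Pi.single (2 : Fin 3) (1 : ZMod p)) := by
  rw [qd, Subgroup.closure_le]
  rintro M ⟨h0, h1, h2⟩
  show Pi.single (2 : Fin 3) (1 : ZMod p) ᵥ* M.1 = _
  ext j
  fin_cases j <;> simp [Matrix.single_vecMul, h0, h1, h2]

theorem qd_row (g : ↥(qd p)) : g.1.1 2 0 = 0 ∧ g.1.1 2 1 = 0 ∧ g.1.1 2 2 = 1 := by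
  have h : Pi.single (2 : Fin 3) (1 : ZMod p) ᵥ* g.1.1 = _ := qd_le_fixRow g.2
  have e : ∀ j, g.1.1 2 j = (Pi.single (2 : Fin 3) (1 : ZMod p) : Fin 3 → ZMod p) j := by
    intro j
    simpa [Matrix.single_vecMul] using congrFun h j
  refine ⟨?_, ?_, ?_⟩ <;> simp [e]

/-- An element of Qd(p) given by its matrix. -/
def qdMk (M : Matrix (Fin 3) (Fin 3) (ZMod p)) (hd : M.det = 1)
    (h0 : M 2 0 = 0) (h1 : M 2 1 = 0) (h2 : M 2 2 = 1) : ↥(qd p) :=
  ⟨⟨M, hd⟩, Subgroup.subset_closure ⟨h0, h1, h2⟩⟩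

theorem isPGroup_fix (i : Fin 3) (hi : i ≠ 2) :
    IsPGroup p ↥((fixVec (Pi.single i (1 : ZMod p))).subgroupOf (qd p)) := by
  rintro ⟨g, hg⟩
  refine ⟨2, Subtype.ext <| Subtype.ext <| Subtype.ext ?_⟩
  simp only [SubmonoidClass.coe_pow, Matrix.SpecialLinearGroup.coe_pow, OneMemClass.coe_one,
    Matrix.SpecialLinearGroup.coe_one]
  refine pow_sq_eq_one _ (cube_sub_one g.1.1 (Pi.single i 1) (Pi.single 2 1) ?_ ?_ ?_ hg ?_ g.1.2)
  · simp
  · simp
  · simp [hi]
  · exact qd_le_fixRow g.2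

/-- The translations of Qd(p). -/
def transl (p : ℕ) [Fact p.Prime] : Subgroup ↥(qd p) :=
  (fixVec (Pi.single 0 1)).subgroupOf (qd p) ⊓ (fixVec (Pi.single 1 1)).subgroupOf (qd p)

instance transl_normal : (transl p).Normal where
  conj_mem m hm g := by
    have key : ∀ (i : Fin 3), i ≠ 2 →
        (g * m * g⁻¹).1.1 *ᵥ Pi.single i (1 : ZMod p) = Pi.single i 1 := by
      intro i hi
      set u := (g⁻¹).1.1 *ᵥ Pi.single i (1 : ZMod p) with hu
      have hu2 : u 2 = 0 := by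
        rw [hu, Matrix.mulVec_single_one, Matrix.col_apply]
        have := qd_row g⁻¹
        fin_cases i
        · exact this.1
        · exact this.2.1
        · exact absurd rfl hi
      have hm0 : m.1.1 *ᵥ Pi.single 0 (1 : ZMod p) = Pi.single 0 1 := hm.1
      have hm1 : m.1.1 *ᵥ Pi.single 1 (1 : ZMod p) = Pi.single 1 1 := hm.2
      have hu3 : u = u 0 • Pi.single 0 (1 : ZMod p) + u 1 • Pi.single 1 (1 : ZMod p) := by
        ext j
        fin_cases j <;> simp [hu2]
      have hmu : m.1.1 *ᵥ u = u := by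
        rw [hu3, Matrix.mulVec_add, Matrix.mulVec_smul, Matrix.mulVec_smul, hm0, hm1]
      calc (g * m * g⁻¹).1.1 *ᵥ Pi.single i (1 : ZMod p)
          = g.1.1 *ᵥ (m.1.1 *ᵥ u) := by
            rw [hu, Matrix.mulVec_mulVec, Matrix.mulVec_mulVec]
            rfl
        _ = (g * g⁻¹).1.1 *ᵥ Pi.single i 1 := by
            rw [hmu, hu, Matrix.mulVec_mulVec]
            rfl
        _ = _ := by rw [mul_inv_cancel]; exact Matrix.one_mulVec _
    exact ⟨key 0 (by decide), key 1 (by decide)⟩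

theorem qd_sylow_not_normal (Q : Sylow p ↥(qd p)) : ¬ (Q : Subgroup ↥(qd p)).Normal := by
  intro hn
  have huniq : ∀ P : Sylow p ↥(qd p), (P : Subgroup ↥(qd p)) = Q := fun P =>
    Q.is_maximal' P.isPGroup' (Q.isPGroup'.le_sylow_of_normal P)
  let a : ↥(qd p) := qdMk !![1, 1, 0; 0, 1, 0; 0, 0, 1] (by simp [Matrix.det_fin_three]) rfl rfl rfl
  let b : ↥(qd p) := qdMk !![1, 0, 0; 1, 1, 0; 0, 0, 1] (by simp [Matrix.det_fin_three]) rfl rfl rfl
  have hA := isPGroup_fix (p := p) 0 (by decide)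
  have hB := isPGroup_fix (p := p) 1 (by decide)
  obtain ⟨QA, hQA⟩ := hA.exists_le_sylow
  obtain ⟨QB, hQB⟩ := hB.exists_le_sylow
  have ha : a ∈ (Q : Subgroup ↥(qd p)) := by
    rw [← huniq QA]
    apply hQA
    show a.1.1 *ᵥ Pi.single 0 (1 : ZMod p) = Pi.single 0 1
    ext i; fin_cases i <;> simp [a, qdMk]
  have hb : b ∈ (Q : Subgroup ↥(qd p)) := by
    rw [← huniq QB]
    apply hQB
    show b.1.1 *ᵥ Pi.single 1 (1 : ZMod p) = Pi.single 1 1
    ext i; fin_cases i <;> simp [b, qdMk]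
  obtain ⟨k, hk⟩ := Q.isPGroup' ⟨a * b, mul_mem ha hb⟩
  have hk' : (a * b).1.1 ^ p ^ k = 1 := by
    have := congrArg (fun x : ↥(Q : Subgroup ↥(qd p)) => x.1.1.1) hk
    simpa using this
  have hnil : IsNilpotent ((a * b).1.1 - 1) := by
    refine ⟨p ^ k, ?_⟩
    rw [sub_pow_char_pow_of_commute p k (Commute.one_right _), hk', one_pow, sub_self]
  have htr := (Matrix.isNilpotent_trace_of_isNilpotent hnil).eq_zero
  have h1 : ((a * b).1.1 - 1).trace = 1 := by
    show ((!![1, 1, 0; 0, 1, 0; 0, 0, 1] : Matrix (Fin 3) (Fin 3) (ZMod p)) *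
      !![1, 0, 0; 1, 1, 0; 0, 0, 1] - 1).trace = 1
    simp [Matrix.trace_fin_three]
    ring
  rw [h1] at htr
  exact one_ne_zero htr

theorem transl_ne_bot : transl p ≠ ⊥ := by
  rw [Subgroup.ne_bot_iff_exists_ne_one]
  let t : ↥(qd p) := qdMk !![1, 0, 1; 0, 1, 0; 0, 0, 1] (by simp [Matrix.det_fin_three]) rfl rfl rfl
  refine ⟨⟨t, ?_, ?_⟩, ?_⟩
  · show t.1.1 *ᵥ Pi.single 0 (1 : ZMod p) = Pi.single 0 1
    ext i; fin_cases i <;> simp [t, qdMk]
  · show t.1.1 *ᵥ Pi.single 1 (1 : ZMod p) = Pi.single 1 1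
    ext i; fin_cases i <;> simp [t, qdMk]
  · intro h
    have h1 := congrArg (fun x : ↥(transl p) => x.1.1.1 0 2) h
    simp [t, qdMk] at h1

theorem transl_isPGroup : IsPGroup p ↥(transl p) :=
  (isPGroup_fix (p := p) 0 (by decide)).to_le inf_le_left

/-- No subgroup of a group with the intersection property maps onto Qd(p). -/
theorem not_surjective {K : Type*} [Group K] [Finite K]
    (hTI : ∀ S T : Subgroup K, IsPGroup p S → IsPGroup p T → S ⊓ T ≠ ⊥ →
      ∃ U : Subgroup K, IsPGroup p U ∧ S ≤ U ∧ T ≤ U)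
    (f : K →* ↥(qd p)) (hf : Function.Surjective f) : False := by
  let M : Subgroup K := (transl p).comap f
  let T : Sylow p ↥M := default
  let S : Subgroup K := (T : Subgroup ↥M).map M.subtype
  have hS : IsPGroup p S := T.isPGroup'.map _
  obtain ⟨P, hP⟩ := hS.exists_le_sylow
  have hS1 : S ≠ ⊥ := by
    intro h
    let φ : ↥M →* ↥(transl p) :=
      (f.comp M.subtype).codRestrict (transl p) (fun x => x.2)
    have hφ : Function.Surjective φ := by
      rintro ⟨y, hy⟩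
      obtain ⟨x, rfl⟩ := hf y
      exact ⟨⟨x, hy⟩, rfl⟩
    have hT : (T : Subgroup ↥M) = ⊥ :=
      (Subgroup.map_eq_bot_iff_of_injective _ M.subtype_injective).mp h
    have h4 : ((T.mapSurjective hφ : Sylow p ↥(transl p)) : Subgroup ↥(transl p)) = ⊥ := by
      rw [Sylow.coe_mapSurjective, hT, Subgroup.map_bot]
    have h3 : (⊥ : Subgroup ↥(transl p)) = ⊤ :=
      h4.symm.trans ((T.mapSurjective hφ).is_maximal' ((transl_isPGroup (p := p)).to_subgroup _) le_top).symm
    exact transl_ne_bot (@Subgroup.eq_bot_of_subsingleton _ _ _ ⟨fun x y => by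
      have hx : x ∈ (⊥ : Subgroup ↥(transl p)) := h3 ▸ Subgroup.mem_top x
      have hy : y ∈ (⊥ : Subgroup ↥(transl p)) := h3 ▸ Subgroup.mem_top y
      rw [Subgroup.mem_bot.mp hx, Subgroup.mem_bot.mp hy]⟩)
  have hN : Subgroup.normalizer (S : Set K) ≤ Subgroup.normalizer ((P : Subgroup K) : Set K) := by
    intro g hg
    refine Sylow.smul_eq_iff_mem_normalizer.mp ?_
    have hle : S ≤ ((g • P : Sylow p K) : Subgroup K) := by
      intro x hx
      rw [Sylow.coe_subgroup_smul]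
      exact ⟨g⁻¹ * x * g, hP ((Subgroup.mem_normalizer_iff''.mp hg x).mp hx), by simp [mul_assoc]⟩
    have hne : ((g • P : Sylow p K) : Subgroup K) ⊓ P ≠ ⊥ :=
      fun h => hS1 (eq_bot_iff.mpr (h ▸ le_inf hle hP))
    obtain ⟨U, hU, h1, h2⟩ := hTI _ _ (g • P).isPGroup' P.isPGroup' hne
    exact Sylow.ext (((g • P).is_maximal' hU h1).symm.trans (P.is_maximal' hU h2))
  have htop : Subgroup.normalizer (S : Set K) ⊔ M = ⊤ := Sylow.normalizer_sup_eq_top T
  obtain ⟨V', hV'⟩ := (transl_isPGroup (p := p)).exists_le_sylow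
  let Q : Sylow p ↥(qd p) := P.mapSurjective hf
  have hVQ : transl p ≤ (Q : Subgroup ↥(qd p)) := by
    obtain ⟨g, hg⟩ := MulAction.exists_smul_eq ↥(qd p) V' Q
    intro x hx
    rw [← hg, Sylow.coe_subgroup_smul]
    exact ⟨g⁻¹ * x * g, hV' ((Subgroup.Normal.conj_mem inferInstance x hx g⁻¹ |> fun h => by simpa using h)),
      by simp [mul_assoc]⟩
  refine qd_sylow_not_normal Q (Subgroup.normalizer_eq_top_iff.mp (top_le_iff.mp fun y _ => ?_))
  obtain ⟨x, rfl⟩ := hf y
  have hx : x ∈ Subgroup.normalizer (S : Set K) ⊔ M := htop ▸ Subgroup.mem_top x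
  obtain ⟨n, hn, m, hm, rfl⟩ := Subgroup.mem_sup_of_normal_right.mp hx
  rw [map_mul]
  refine mul_mem ?_ (Subgroup.le_normalizer (hVQ hm))
  have h3 := Subgroup.le_normalizer_map (H := (P : Subgroup K)) f (Subgroup.mem_map_of_mem f (hN hn))
  simpa [Q] using h3

/-- The same, stated for `Involves`. -/
theorem not_involves {G : Type*} [Group G] [Finite G]
    (hTI : ∀ S T : Subgroup G, IsPGroup p S → IsPGroup p T → S ⊓ T ≠ ⊥ →
      ∃ U : Subgroup G, IsPGroup p U ∧ S ≤ U ∧ T ≤ U)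
    {H : Type*} [Group H] (π : G →* H) (hπ : Function.Surjective π) :
    ¬ Involves ↥(qd p) H := by
  rintro ⟨K, R, hR, ⟨e⟩⟩
  let K' := K.comap π
  let r : ↥K' →* ↥K := (π.comp K'.subtype).codRestrict K (fun x => x.2)
  have hr : Function.Surjective r := by
    rintro ⟨y, hy⟩
    obtain ⟨x, rfl⟩ := hπ y
    exact ⟨⟨x, hy⟩, rfl⟩
  refine not_surjective (K := ↥K') ?_ ((e.toMonoidHom.comp (QuotientGroup.mk' (R.subgroupOf K))).comp r) ?_
  · intro S T hS hT hne
    obtain ⟨U, hU, h1, h2⟩ := hTI (S.map K'.subtype) (T.map K'.subtype) (hS.map _) (hT.map _) (by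
      rw [← Subgroup.map_inf _ _ _ K'.subtype_injective]
      simpa [Subgroup.map_eq_bot_iff_of_injective _ K'.subtype_injective] using hne)
    exact ⟨U.comap K'.subtype, hU.comap_of_injective _ K'.subtype_injective,
      Subgroup.map_le_iff_le_comap.mp h1, Subgroup.map_le_iff_le_comap.mp h2⟩
  · exact ((e.surjective.comp (QuotientGroup.mk'_surjective _)).comp hr)

end Qd

end Cfsg.Agent.QdFree
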