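/-
Fixed vectors of p-subgroups of SL_n in characteristic p (`exists_fixed_vector`) and the intersection property
deduced from vector stabilisers (`ti_of_points`).
-/
import Cfsg.Agent.Lib.QdFree.Basic

set_option autoImplicit false

namespace Cfsg.Agent.QdFree

open Matrix

variable {n : ℕ} {p : ℕ} [Fact p.Prime] {F : Type*} [Field F] [Finite F] [CharP F p]

omit [Fact p.Prime] [Finite F] [CharP F p] in
theorem mem_fixVec {v : Fin n → F} {g : Matrix.SpecialLinearGroup (Fin n) F} :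
    g ∈ fixVec v ↔ (g : Matrix (Fin n) (Fin n) F) *ᵥ v = v := Iff.rfl

/-- A p-subgroup of SL_n(F), F of characteristic p, fixes a nonzero vector of any nonzero invariant
additive subgroup. -/
theorem exists_fixed_vector (S : Subgroup (Matrix.SpecialLinearGroup (Fin n) F)) (hS : IsPGroup p S)
    (W : AddSubgroup (Fin n → F)) (hW : ∀ g ∈ S, ∀ u ∈ W, (g : Matrix (Fin n) (Fin n) F) *ᵥ u ∈ W)
    (hne : W ≠ ⊥) : ∃ u ∈ W, u ≠ 0 ∧ S ≤ fixVec u := by
  letI : MulAction ↥S ↥W :=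
    { smul := fun g u => ⟨g.1.1 *ᵥ u.1, hW g.1 g.2 u.1 u.2⟩
      one_smul := fun u => Subtype.ext (Matrix.one_mulVec _)
      mul_smul := fun g h u => Subtype.ext (Matrix.mulVec_mulVec u.1 g.1.1 h.1.1).symm }
  obtain ⟨⟨u, hu⟩, hu0⟩ := (W.ne_bot_iff_exists_ne_zero).mp hne
  have hdvd : p ∣ Nat.card ↥W := by
    refine (dvd_of_eq ?_).trans (addOrderOf_dvd_natCard (⟨u, hu⟩ : ↥W))
    refine (addOrderOf_eq_prime (Subtype.ext ?_) hu0).symm
    ext i
    simp
  obtain ⟨⟨b, hb⟩, hbfix, hbne⟩ := hS.exists_fixed_point_of_prime_dvd_card_of_fixed_point ↥W hdvd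
    (a := 0) (fun g => Subtype.ext (Matrix.mulVec_zero g.1.1))
  refine ⟨b, hb, fun h => hbne (Subtype.ext h.symm), fun g hg => ?_⟩
  exact congrArg Subtype.val (hbfix ⟨g, hg⟩)

omit [Fact p.Prime] [Finite F] [CharP F p] in
/-- The intersection property of p-subgroups, from a set of points with p-group stabilisers. -/
theorem ti_of_points (H : Subgroup (Matrix.SpecialLinearGroup (Fin n) F)) (P : (Fin n → F) → Prop)
    (hfix : ∀ S ≤ H, IsPGroup p S → S ≠ ⊥ → ∃ v, P v ∧ S ≤ fixVec v)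
    (hstab : ∀ v, P v → IsPGroup p ↥(H ⊓ fixVec v))
    (hunique : ∀ v w, P v → P w → ∀ x ∈ H, x ≠ 1 → x ∈ fixVec v → x ∈ fixVec w →
      H ⊓ fixVec w ≤ fixVec v) :
    ∀ S T : Subgroup ↥H, IsPGroup p S → IsPGroup p T → S ⊓ T ≠ ⊥ →
      ∃ U : Subgroup ↥H, IsPGroup p U ∧ S ≤ U ∧ T ≤ U := by
  intro S T hS hT hne
  obtain ⟨⟨x, hxS, hxT⟩, hx1⟩ := (Subgroup.ne_bot_iff_exists_ne_one).mp hne
  have hxne : x.1 ≠ 1 := fun h => hx1 (Subtype.ext (Subtype.ext h))
  have bot : ∀ K : Subgroup ↥H, x ∈ K → K.map H.subtype ≠ ⊥ := fun K hK h =>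
    hxne (Subgroup.mem_bot.mp (h ▸ Subgroup.mem_map_of_mem H.subtype hK))
  obtain ⟨v, hv, hSv⟩ := hfix _ (Subgroup.map_subtype_le S) (hS.map _) (bot S hxS)
  obtain ⟨w, hw, hTw⟩ := hfix _ (Subgroup.map_subtype_le T) (hT.map _) (bot T hxT)
  refine ⟨(fixVec v).subgroupOf H, ?_, ?_, ?_⟩
  · have := hstab v hv
    rw [← Subgroup.inf_subgroupOf_left]
    exact this.comap_of_injective _ H.subtype_injective
  · exact fun y hy => hSv (Subgroup.mem_map_of_mem H.subtype hy)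
  · exact fun y hy => hunique v w hv hw x.1 x.2 hxne (hSv (Subgroup.mem_map_of_mem H.subtype hxS))
      (hTw (Subgroup.mem_map_of_mem H.subtype hxT))
      ⟨y.2, hTw (Subgroup.mem_map_of_mem H.subtype hy)⟩

end Cfsg.Agent.QdFree
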